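import Groth.Agent.L10.KInjRes.Main
import Mathlib.Algebra.Homology.SingleHomology

/-! The resolution given by the small object argument. -/

universe v u

open CategoryTheory CategoryTheory.Limits ZeroObject

set_option backward.defeqAttrib.useBackward true
set_option backward.isDefEq.respectTransparency false
namespace Groth.L10.KInjRes

variable {A : Type u} [Category.{v} A] [Abelian A]

/-- In an acyclic complex a map killing the previous differential factors through the next one. -/
theorem exists_factor {K : CochainComplex A ℤ} (hK : K.Acyclic) {E : A} [Injective E] (i j k : ℤ)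
    (hij : i + 1 = j) (hjk : j + 1 = k) (a : K.X j ⟶ E) (ha : K.d i j ≫ a = 0) :
    ∃ b : K.X k ⟶ E, K.d j k ≫ b = a :=
  have hex := (HomologicalComplex.exactAt_iff' K i j k (by simp; omega) (by simp; omega)).1 (hK j)
  ⟨hex.descToInjective a ha, hex.comp_descToInjective a ha⟩

theorem diskProj_f (n : ℤ) (X : A) :
    (diskProj n X).f n ≫ (HomologicalComplex.singleObjXSelf (ComplexShape.up ℤ) n X).hom = (D₀ n X).hom := by
  simp [diskProj]

theorem homologyπ_map_toSingle {K : CochainComplex A ℤ} {n : ℤ} {E : A} (a : K.X n ⟶ E)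
    (ha : ∀ i, (ComplexShape.up ℤ).Rel i n → K.d i n ≫ a = 0) :
    K.homologyπ n ≫ HomologicalComplex.homologyMap (HomologicalComplex.mkHomToSingle a ha) n ≫
      (HomologicalComplex.singleObjHomologySelfIso (ComplexShape.up ℤ) n E).hom = K.iCycles n ≫ a := by
  rw [HomologicalComplex.homologyπ_naturality_assoc, HomologicalComplex.homologyπ_singleObjHomologySelfIso_hom,
    HomologicalComplex.singleObjCyclesSelfIso_hom, HomologicalComplex.cyclesMap_i_assoc,
    HomologicalComplex.mkHomToSingle_f, Category.assoc, Iso.inv_hom_id, Category.comp_id]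

variable [IsGrothendieckAbelian.{v} A]

theorem rlp_disk_to_zero (m : ℤ) (E : A) [Injective E] {Z : CochainComplex A ℤ} (hZ : IsZero Z)
    (t : disk m E ⟶ Z) : (gens' A).rlp t := fun X Y g hg => by
  obtain ⟨hm, -, -⟩ := gens'_acyclic hg
  refine ⟨fun {u v} sq => ⟨⟨{ l := toDisk (Injective.factorThru (u.f (m+1) ≫ (D₁ m E).hom) (g.f (m+1))),
                               fac_left := toDisk_ext (by
      rw [← cancel_mono (D₁ m E).hom, HomologicalComplex.comp_f, Category.assoc, toDisk_f_succ, Injective.comp_factorThru]), fac_right := hZ.eq_of_tgt _ _ }⟩⟩⟩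

theorem rlp_single_to_zero (n : ℤ) (E : A) [Injective E] {Z : CochainComplex A ℤ} (hZ : IsZero Z)
    (t : (HomologicalComplex.single A (ComplexShape.up ℤ) n).obj E ⟶ Z) : (gens' A).rlp t := fun X Y g hg => by
  obtain ⟨hm, hX, -⟩ := gens'_acyclic hg
  refine ⟨fun {u v} sq => ?_⟩
  let a := u.f n ≫ (HomologicalComplex.singleObjXSelf (ComplexShape.up ℤ) n E).hom
  have ha : X.d (n-1) n ≫ a = 0 := by
    simp only [a, ← Category.assoc, ← u.comm, HomologicalComplex.single_obj_d, comp_zero, zero_comp]
  obtain ⟨b, hb⟩ := exists_factor hX (n-1) n (n+1) (by omega) rfl a ha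
  refine ⟨⟨{ l := HomologicalComplex.mkHomToSingle (Y.d n (n+1) ≫ Injective.factorThru b (g.f (n+1))) ?_,
             fac_left := ?_, fac_right := hZ.eq_of_tgt _ _ }⟩⟩
  · intro i _
    simp
  · apply HomologicalComplex.to_single_hom_ext
    rw [← cancel_mono (HomologicalComplex.singleObjXSelf (ComplexShape.up ℤ) n E).hom, HomologicalComplex.comp_f,
      HomologicalComplex.mkHomToSingle_f, Category.assoc, Category.assoc, Category.assoc, Iso.inv_hom_id,
      Category.comp_id, HomologicalComplex.Hom.comm_assoc, Injective.comp_factorThru, hb]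

theorem rlp_diskProj (n : ℤ) (E : A) [Injective E] : (gens' A).rlp (diskProj n E) := fun X Y g hg => by
  obtain ⟨hm, hX, hY⟩ := gens'_acyclic hg
  refine ⟨fun {u v} sq => ?_⟩
  let e₁ := u.f (n+1) ≫ (D₁ n E).hom
  let a := v.f n ≫ (HomologicalComplex.singleObjXSelf (ComplexShape.up ℤ) n E).hom
  have ha : Y.d (n-1) n ≫ a = 0 := by
    simp only [a, ← Category.assoc, ← v.comm, HomologicalComplex.single_obj_d, comp_zero, zero_comp]
  obtain ⟨e₀, he₀⟩ := exists_factor hY (n-1) n (n+1) (by omega) rfl a ha
  have hga : g.f n ≫ a = X.d n (n+1) ≫ e₁ := by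
    have h1 := congrArg (fun φ => φ.f n ≫ (HomologicalComplex.singleObjXSelf (ComplexShape.up ℤ) n E).hom) sq.w
    simp only [HomologicalComplex.comp_f, Category.assoc, diskProj_f] at h1
    refine h1.symm.trans ?_
    rw [show e₁ = u.f (n+1) ≫ (D₁ n E).hom from rfl, ← Category.assoc (X.d n (n+1)), ← u.comm, disk_d]
    simp
  obtain ⟨c, hc⟩ := exists_factor hX n (n+1) (n+2) rfl (by omega) (e₁ - g.f (n+1) ≫ e₀) (by
    rw [Preadditive.comp_sub, ← g.comm_assoc, he₀, hga, sub_self])
  let e := e₀ + Y.d (n+1) (n+2) ≫ Injective.factorThru c (g.f (n+2))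
  have hge : g.f (n+1) ≫ e = e₁ := by
    simp only [e, Preadditive.comp_add, HomologicalComplex.Hom.comm_assoc, Injective.comp_factorThru, hc]
    abel
  have hde : Y.d n (n+1) ≫ e = a := by
    simp [e, he₀]
  refine ⟨⟨{ l := toDisk e, fac_left := toDisk_ext ?_, fac_right := HomologicalComplex.to_single_hom_ext ?_ }⟩⟩
  · rw [← cancel_mono (D₁ n E).hom, HomologicalComplex.comp_f, Category.assoc, toDisk_f_succ, hge]
  · rw [← cancel_mono (HomologicalComplex.singleObjXSelf (ComplexShape.up ℤ) n E).hom, HomologicalComplex.comp_f,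
      Category.assoc, diskProj_f, toDisk_f, hde]

theorem mono_of_llp {M I : CochainComplex A ℤ} {f : M ⟶ I} (hf : (gens' A).rlp.llp f) (n : ℤ) : Mono (f.f n) := by
  obtain ⟨m, rfl⟩ : ∃ m, n = m + 1 := ⟨n - 1, by omega⟩
  let E := Injective.under (M.X (m+1))
  have := hf (0 : disk m E ⟶ 0) (rlp_disk_to_zero m E (isZero_zero _) 0)
  have sq : CommSq (toDisk (Injective.ι (M.X (m+1)))) f (0 : disk m E ⟶ 0) 0 := ⟨(isZero_zero _).eq_of_tgt _ _⟩
  have h := congrArg (fun φ => φ.f (m+1) ≫ (D₁ m E).hom) sq.fac_left
  simp only [HomologicalComplex.comp_f, Category.assoc, toDisk_f_succ] at h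
  exact mono_of_mono_fac h

theorem mono_homologyMap_of_llp {M I : CochainComplex A ℤ} {f : M ⟶ I} (hf : (gens' A).rlp.llp f) (n : ℤ) :
    Mono (HomologicalComplex.homologyMap f n) := by
  let E := Injective.under (M.homology n)
  let j : M.homology n ⟶ E := Injective.ι _
  let a := Injective.factorThru (M.homologyπ n ≫ j) (M.iCycles n)
  have ha : ∀ i, (ComplexShape.up ℤ).Rel i n → M.d i n ≫ a = 0 := fun i _ => by
    simp only [a, ← M.toCycles_i i n, Category.assoc, Injective.comp_factorThru,
      HomologicalComplex.toCycles_comp_homologyπ_assoc, zero_comp]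
  have := hf (0 : (HomologicalComplex.single A (ComplexShape.up ℤ) n).obj E ⟶ 0) (rlp_single_to_zero n E (isZero_zero _) 0)
  have sq : CommSq (HomologicalComplex.mkHomToSingle a ha) f
      (0 : (HomologicalComplex.single A (ComplexShape.up ℤ) n).obj E ⟶ 0) 0 := ⟨(isZero_zero _).eq_of_tgt _ _⟩
  suffices h : HomologicalComplex.homologyMap f n ≫ HomologicalComplex.homologyMap sq.lift n ≫
      (HomologicalComplex.singleObjHomologySelfIso (ComplexShape.up ℤ) n E).hom = j from mono_of_mono_fac h
  rw [← Category.assoc, ← HomologicalComplex.homologyMap_comp, sq.fac_left, ← cancel_epi (M.homologyπ n),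
    homologyπ_map_toSingle, Injective.comp_factorThru]

theorem epi_homologyMap_of_llp {M I : CochainComplex A ℤ} {f : M ⟶ I} (hf : (gens' A).rlp.llp f) (n : ℤ) :
    Epi (HomologicalComplex.homologyMap f n) := by
  refine Preadditive.epi_of_cancel_zero _ fun {P} q hq => ?_
  let E := Injective.under P
  rw [← cancel_mono (Injective.ι P), zero_comp]
  let a := Injective.factorThru (I.homologyπ n ≫ q ≫ Injective.ι P) (I.iCycles n)
  have ha : ∀ i, (ComplexShape.up ℤ).Rel i n → I.d i n ≫ a = 0 := fun i _ => by
    simp only [a, ← I.toCycles_i i n, Category.assoc, Injective.comp_factorThru,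
      HomologicalComplex.toCycles_comp_homologyπ_assoc, zero_comp]
  have hker : M.iCycles n ≫ f.f n ≫ a = 0 := by
    rw [← HomologicalComplex.cyclesMap_i_assoc, Injective.comp_factorThru,
      ← HomologicalComplex.homologyπ_naturality_assoc, reassoc_of% hq, zero_comp, comp_zero]
  let S := ShortComplex.mk (M.iCycles n) (M.d n (n+1)) (M.iCycles_d n (n+1))
  have hS : S.Exact := S.exact_of_f_is_kernel (M.cyclesIsKernel n (n+1) (by simp))
  let b := hS.descToInjective (f.f n ≫ a) hker
  have := hf (diskProj n E) (rlp_diskProj n E)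
  have sq : CommSq (toDisk b) f (diskProj n E) (HomologicalComplex.mkHomToSingle a ha) := ⟨by
    apply HomologicalComplex.to_single_hom_ext
    rw [← cancel_mono (HomologicalComplex.singleObjXSelf (ComplexShape.up ℤ) n E).hom, HomologicalComplex.comp_f,
      HomologicalComplex.comp_f, Category.assoc, Category.assoc, diskProj_f, toDisk_f,
      HomologicalComplex.mkHomToSingle_f, Category.assoc, Iso.inv_hom_id, Category.comp_id]
    exact hS.comp_descToInjective _ _⟩
  have h0 : HomologicalComplex.homologyMap (HomologicalComplex.mkHomToSingle a ha) n = 0 := by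
    rw [← sq.fac_right, HomologicalComplex.homologyMap_comp,
      ((HomologicalComplex.exactAt_iff_isZero_homology _ _).1 (acyclic_disk n E n)).eq_of_tgt
        (HomologicalComplex.homologyMap _ n) 0, zero_comp]
  have h := homologyπ_map_toSingle a ha
  rw [h0, zero_comp, comp_zero, Injective.comp_factorThru] at h
  rw [← cancel_epi (I.homologyπ n), comp_zero]
  exact h.symm

/-- Every complex has a K-injective resolution with injective terms, monic in each degree. -/
theorem exists_resolution (M : CochainComplex A ℤ) :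
    ∃ (I : CochainComplex A ℤ) (f : M ⟶ I), I.IsKInjective ∧ QuasiIso f ∧ (∀ n, Mono (f.f n)) ∧
      ∀ n, Injective (I.X n) := by
  have := hasSmallObjectArgument (A := A)
  let F := MorphismProperty.factorizationData (gens' A).rlp.llp (gens' A).rlp (0 : M ⟶ (0 : CochainComplex A ℤ))
  have hfib : Fibrant F.Z := fun X Y g hg u => by
    have := F.hp g hg
    have sq : CommSq u g F.p 0 := ⟨(isZero_zero _).eq_of_tgt _ _⟩
    exact ⟨sq.lift, sq.fac_left⟩
  refine ⟨F.Z, F.i, hfib.isKInjective, ?_, fun n => mono_of_llp F.hi n, hfib.injective⟩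
  rw [quasiIso_iff]
  intro n
  rw [quasiIsoAt_iff_isIso_homologyMap]
  have := mono_homologyMap_of_llp F.hi n
  have := epi_homologyMap_of_llp F.hi n
  exact isIso_of_mono_of_epi _

/-- A chosen resolution. -/
noncomputable def res (M : CochainComplex A ℤ) : CochainComplex A ℤ := (exists_resolution M).choose

/-- The map to the chosen resolution. -/
noncomputable def resι (M : CochainComplex A ℤ) : M ⟶ res M := (exists_resolution M).choose_spec.choose

instance res_isKInjective (M : CochainComplex A ℤ) : (res M).IsKInjective :=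
  (exists_resolution M).choose_spec.choose_spec.1

instance res_quasiIso (M : CochainComplex A ℤ) : QuasiIso (resι M) :=
  (exists_resolution M).choose_spec.choose_spec.2.1

instance res_mono (M : CochainComplex A ℤ) (n : ℤ) : Mono ((resι M).f n) :=
  (exists_resolution M).choose_spec.choose_spec.2.2.1 n

instance res_injective (M : CochainComplex A ℤ) (n : ℤ) : Injective ((res M).X n) :=
  (exists_resolution M).choose_spec.choose_spec.2.2.2 n

end Groth.L10.KInjRes
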