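import Groth.Agent.L10.KInjRes.Small
import Groth.Agent.L10.KInj2
import Mathlib.Algebra.Homology.DerivedCategory.KInjective
import Mathlib.CategoryTheory.SmallObject.Basic
import Mathlib.CategoryTheory.Preadditive.Injective.LiftingProperties
import Mathlib.Order.Zorn

/-! K-injective resolutions with injective terms in Grothendieck abelian categories. -/

universe v u

open CategoryTheory CategoryTheory.Limits CochainComplex CochainComplex.HomComplex

set_option backward.defeqAttrib.useBackward true
set_option backward.isDefEq.respectTransparency false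
namespace Groth.L10.KInjRes

variable {A : Type u} [Category.{v} A] [Abelian A]

/-- The lower degree of a disk. -/
noncomputable abbrev D₀ (n : ℤ) (X : A) : (disk n X).X n ≅ X :=
  HomologicalComplex.doubleXIso₀ (𝟙 X) (show (ComplexShape.up ℤ).Rel n (n+1) from rfl)

/-- The upper degree of a disk. -/
noncomputable abbrev D₁ (n : ℤ) (X : A) : (disk n X).X (n+1) ≅ X :=
  HomologicalComplex.doubleXIso₁ (𝟙 X) (show (ComplexShape.up ℤ).Rel n (n+1) from rfl) (by omega)

theorem isZero_disk (n : ℤ) (X : A) (k : ℤ) (h₀ : k ≠ n) (h₁ : k ≠ n + 1) : IsZero ((disk n X).X k) :=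
  HomologicalComplex.isZero_double_X (𝟙 X) _ k h₀ h₁

theorem disk_d (n : ℤ) (X : A) : (disk n X).d n (n+1) = (D₀ n X).hom ≫ (D₁ n X).inv := by
  rw [HomologicalComplex.double_d _ _ (by omega), Category.id_comp]

theorem disk_d_eq_zero (n : ℤ) (X : A) (i j : ℤ) (h : i ≠ n) : (disk n X).d i j = 0 :=
  HomologicalComplex.double_d_eq_zero₀ (𝟙 X) _ i j h

theorem isIso_disk_d (n : ℤ) (X : A) : IsIso ((disk n X).d n (n+1)) := by
  rw [disk_d]; infer_instance

theorem acyclic_disk (n : ℤ) (X : A) : (disk n X).Acyclic := fun i => by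
  have := isIso_disk_d n X
  rcases eq_or_ne i n with rfl | h₁
  · rw [HomologicalComplex.exactAt_iff' _ (i-1) i (i+1) (by simp) (by simp)]
    refine (ShortComplex.exact_iff_mono _ ((isZero_disk i X (i-1) (by omega) (by omega)).eq_of_src _ _)).2 ?_
    exact inferInstanceAs (Mono ((disk i X).d i (i+1)))
  · rcases eq_or_ne i (n+1) with rfl | h₂
    · rw [HomologicalComplex.exactAt_iff' _ n (n+1) (n+1+1) (by simp) (by simp)]
      refine (ShortComplex.exact_iff_epi _ ((isZero_disk n X (n+1+1) (by omega) (by omega)).eq_of_tgt _ _)).2 ?_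
      exact inferInstanceAs (Epi ((disk n X).d n (n+1)))
    · rw [HomologicalComplex.exactAt_iff]
      exact ShortComplex.exact_of_isZero_X₂ _ (isZero_disk n X i h₁ h₂)

/-- Maps into a disk. -/
noncomputable def toDisk {n : ℤ} {X : A} {K : CochainComplex A ℤ} (e : K.X (n+1) ⟶ X) : K ⟶ disk n X where
  f k :=
    if h₀ : k = n then eqToHom (congrArg K.X h₀) ≫ (K.d n (n+1) ≫ e ≫ (D₀ n X).inv) ≫ eqToHom (congrArg (disk n X).X h₀.symm)
    else if h₁ : k = n + 1 then eqToHom (congrArg K.X h₁) ≫ (e ≫ (D₁ n X).inv) ≫ eqToHom (congrArg (disk n X).X h₁.symm)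
    else 0
  comm' i j hij := by
    obtain rfl : i + 1 = j := hij
    by_cases h₀ : i = n
    · subst h₀
      rw [dif_pos rfl, dif_neg (show i + 1 ≠ i by omega), dif_pos rfl, disk_d]
      simp
    · rw [disk_d_eq_zero _ _ _ _ h₀, comp_zero]
      by_cases h₁ : i + 1 = n
      · subst h₁
        rw [dif_pos rfl]
        simp
      · rw [dif_neg h₁, dif_neg (show i + 1 ≠ n + 1 by omega), comp_zero]

theorem toDisk_f_succ {n : ℤ} {X : A} {K : CochainComplex A ℤ} (e : K.X (n+1) ⟶ X) :
    (toDisk e).f (n+1) ≫ (D₁ n X).hom = e := by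
  simp [toDisk]

theorem toDisk_f {n : ℤ} {X : A} {K : CochainComplex A ℤ} (e : K.X (n+1) ⟶ X) :
    (toDisk e).f n ≫ (D₀ n X).hom = K.d n (n+1) ≫ e := by
  simp [toDisk]

theorem toDisk_ext {n : ℤ} {X : A} {K : CochainComplex A ℤ} {f g : K ⟶ disk n X}
    (h : f.f (n+1) = g.f (n+1)) : f = g := by
  refine HomologicalComplex.to_double_hom_ext ?_ h
  have := isIso_disk_d n X
  rw [← cancel_mono ((disk n X).d n (n+1)), f.comm, g.comm, h]

/-- The projection of a disk to its lower degree. -/
noncomputable def diskProj (n : ℤ) (X : A) : disk n X ⟶ (HomologicalComplex.single A (ComplexShape.up ℤ) n).obj X :=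
  HomologicalComplex.mkHomToSingle (D₀ n X).hom fun i hi => by
    rw [disk_d_eq_zero n X i n (by intro h; simp at hi; omega), zero_comp]

variable [IsGrothendieckAbelian.{v} A]

/-- Indices of small acyclic complexes. -/
abbrev SmallAc (A : Type u) [Category.{v} A] [Abelian A] [IsGrothendieckAbelian.{v} A] : Type (max u v) :=
  {R : Subobject (free (A := A) (gensTot A)) // (cokernel R.arrow).Acyclic}

/-- Generators: small acyclic complexes into their cones. -/
noncomputable abbrev genCone (A : Type u) [Category.{v} A] [Abelian A] [IsGrothendieckAbelian.{v} A] :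
    MorphismProperty (CochainComplex A ℤ) :=
  MorphismProperty.ofHoms (fun R : SmallAc A => mappingCone.inr (𝟙 (cokernel R.1.arrow)))

/-- The disk of a subobject of the generator inside the disk of the generator. -/
noncomputable abbrev diskIncl (p : ℤ × Subobject (gen A)) : disk p.1 (p.2 : A) ⟶ disk p.1 (gen A) :=
  diskHom (p.2.arrow ≫ (HomologicalComplex.doubleXIso₀ _ _).inv)

/-- Generators: subobjects of the generator. -/
noncomputable abbrev genDisk (A : Type u) [Category.{v} A] [Abelian A] [IsGrothendieckAbelian.{v} A] :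
    MorphismProperty (CochainComplex A ℤ) :=
  MorphismProperty.ofHoms (fun p : ℤ × Subobject (gen A) => diskIncl p)

/-- All generators. -/
noncomputable abbrev gens' (A : Type u) [Category.{v} A] [Abelian A] [IsGrothendieckAbelian.{v} A] :
    MorphismProperty (CochainComplex A ℤ) := genCone A ⊔ genDisk A

theorem mono_inr (K : CochainComplex A ℤ) : Mono (mappingCone.inr (𝟙 K)) :=
  HomologicalComplex.mono_of_mono_f _ fun n => Preadditive.mono_of_cancel_zero _ fun {P} g hg => by
    have := congrArg (· ≫ (mappingCone.snd (𝟙 K)).v n n (add_zero n)) hg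
    simpa using this

theorem mono_diskIncl (p : ℤ × Subobject (gen A)) : Mono (diskIncl p) :=
  HomologicalComplex.mono_of_mono_f _ fun k => by
    by_cases h₀ : k = p.1
    · subst h₀; simp only [diskIncl, diskHom, HomologicalComplex.mkHomFromDouble_f₀]; infer_instance
    · by_cases h₁ : k = p.1 + 1
      · subst h₁
        simp only [diskIncl, diskHom, HomologicalComplex.mkHomFromDouble_f₁, Category.assoc, disk_d, Iso.inv_hom_id_assoc]
        infer_instance
      · exact Preadditive.mono_of_cancel_zero _ fun {P} g hg => (isZero_disk _ _ k h₀ h₁).eq_of_tgt _ _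

theorem gens'_le_monomorphisms : gens' A ≤ MorphismProperty.monomorphisms _ := by
  rintro X Y f (h | h)
  · obtain ⟨R⟩ := h; exact mono_inr _
  · obtain ⟨p⟩ := h; exact mono_diskIncl p

theorem gens'_acyclic {X Y : CochainComplex A ℤ} {f : X ⟶ Y} (h : gens' A f) :
    Mono f ∧ X.Acyclic ∧ Y.Acyclic := by
  refine ⟨gens'_le_monomorphisms _ h, ?_⟩
  rcases h with h | h
  · obtain ⟨R⟩ := h; exact ⟨R.2, acyclic_mappingCone_id _⟩
  · obtain ⟨p⟩ := h; exact ⟨acyclic_disk _ _, acyclic_disk _ _⟩

instance : MorphismProperty.IsSmall.{v} (gens' A) := by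
  have : MorphismProperty.IsSmall.{v} (genCone A) := inferInstance
  have : MorphismProperty.IsSmall.{v} (genDisk A) := inferInstance
  let W : ULift.{v} Bool → MorphismProperty (CochainComplex A ℤ) := fun b => cond b.down (genCone A) (genDisk A)
  have : ∀ b, MorphismProperty.IsSmall.{v} (W b) := by rintro ⟨_ | _⟩ <;> assumption
  have h : gens' A = ⨆ b, W b := le_antisymm (sup_le (le_iSup W ⟨true⟩) (le_iSup W ⟨false⟩))
    (iSup_le (by rintro ⟨_ | _⟩; exacts [le_sup_right, le_sup_left]))
  rw [h]; infer_instance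

theorem hasSmallObjectArgument : MorphismProperty.HasSmallObjectArgument.{v} (gens' A) := by
  let src : SmallAc A ⊕ (ℤ × Subobject (gen A)) → CochainComplex A ℤ :=
    Sum.elim (fun R => cokernel R.1.arrow) (fun p => disk p.1 (p.2 : A))
  obtain ⟨κ, hκ', hκ⟩ := HasCardinalLT.exists_regular_cardinal.{v} (Σ i, Subobject (src i))
  have : Fact κ.IsRegular := ⟨hκ'⟩
  have : Nonempty κ.ord.ToType := by simpa using hκ'.ne_zero
  have := WellFoundedLT.toOrderBot κ.ord.ToType
  exact ⟨κ, inferInstance, inferInstance,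
    { preservesColimit {S T X Y} i hi f hf := by
        let hf' : (MorphismProperty.monomorphisms (CochainComplex A ℤ)).TransfiniteCompositionOfShape κ.ord.ToType f :=
          { toTransfiniteCompositionOfShape := hf.toTransfiniteCompositionOfShape
            map_mem j hj := by
              have := (hf.attachCells j hj).pushouts_coproducts
              simp only [MorphismProperty.ofHoms_homFamily] at this
              refine (?_ : _ ≤ MorphismProperty.monomorphisms _) _ this
              simp only [MorphismProperty.pushouts_le_iff, MorphismProperty.coproducts_le_iff]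
              exact gens'_le_monomorphisms }
        have (j j' : κ.ord.ToType) (φ : j ⟶ j') : Mono (hf'.F.map φ) := hf'.mem_map φ
        apply IsGrothendieckAbelian.preservesColimit_coyoneda_obj_of_mono (Y := hf'.F) (κ := κ)
        rcases hi with h | h
        · obtain ⟨R⟩ := h
          exact hκ.of_injective (fun s => (⟨Sum.inl R, s⟩ : Σ i, Subobject (src i))) (fun a b h => eq_of_heq (Sigma.mk.inj_iff.1 h).2)
        · obtain ⟨p⟩ := h
          exact hκ.of_injective (fun s => (⟨Sum.inr p, s⟩ : Σ i, Subobject (src i))) (fun a b h => eq_of_heq (Sigma.mk.inj_iff.1 h).2) }⟩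

/-- The complexes lifting against all generators. -/
def Fibrant (I : CochainComplex A ℤ) : Prop :=
  ∀ ⦃X Y : CochainComplex A ℤ⦄ (f : X ⟶ Y), gens' A f → ∀ u : X ⟶ I, ∃ l : Y ⟶ I, f ≫ l = u

theorem Fibrant.injective {I : CochainComplex A ℤ} (h : Fibrant I) (n : ℤ) : Injective (I.X n) := by
  rw [injective_iff_rlp_monomorphisms_zero, ← IsGrothendieckAbelian.generatingMonomorphisms_rlp (isSeparator_separator A)]
  rintro _ _ _ ⟨Y⟩
  refine ⟨fun {u v} sq => ?_⟩
  obtain ⟨l, hl⟩ := h (diskIncl (n, Y)) (Or.inr ⟨(n, Y)⟩) (diskHom u)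
  refine ⟨⟨{ l := (HomologicalComplex.doubleXIso₀ _ _).inv ≫ l.f n, fac_left := ?_, fac_right := (isZero_zero A).eq_of_tgt _ _ }⟩⟩
  have := congrArg (fun φ => (HomologicalComplex.doubleXIso₀ _ _).inv ≫ φ.f n) hl
  simp only [diskIncl, diskHom_comp, diskHom_f] at this
  rw [← Category.assoc]
  exact this

theorem Fibrant.null_small {I : CochainComplex A ℤ} (h : Fibrant I) (R : SmallAc A) (φ : cokernel R.1.arrow ⟶ I) :
    ∃ α : Cochain (cokernel R.1.arrow) I (-1), δ (-1) 0 α = Cochain.ofHom φ :=
  (nullHomotopic_iff φ).1 ((nullHomotopic_iff_factor φ).2 (h _ (Or.inl ⟨R⟩) φ))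

/-- A type synonym for the indices of a chain. -/
structure Idx {α : Type v} (t : Set α) where
  val : t

/-- Partial null-homotopies. -/
structure Part {K I : CochainComplex A ℤ} (f : K ⟶ I) where
  L : Subobject K
  ac : (L : CochainComplex A ℤ).Acyclic
  α : Cochain (L : CochainComplex A ℤ) I (-1)
  hα : δ (-1) 0 α = Cochain.ofHom (L.arrow ≫ f)

instance {K I : CochainComplex A ℤ} (f : K ⟶ I) : Preorder (Part f) where
  le p q := ∃ h : p.L ≤ q.L, (Cochain.ofHom (Subobject.ofLE _ _ h)).comp q.α (zero_add (-1)) = p.α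
  le_refl p := ⟨le_rfl, by simp⟩
  le_trans p q r := fun ⟨h, e⟩ ⟨h', e'⟩ => ⟨h.trans h', by
    rw [← Subobject.ofLE_comp_ofLE p.L q.L r.L h h', Cochain.ofHom_comp, ← e, ← e',
      Cochain.comp_assoc_of_first_is_zero_cochain]⟩

theorem exists_ub {K I : CochainComplex A ℤ} (f : K ⟶ I) (c : Set (Part f)) (hc : IsChain (· ≤ ·) c)
    (hne : c.Nonempty) : ∃ M, ∀ p ∈ c, p ≤ M := by
  classical
  let t : Set (Shrink.{v} (Subobject K)) := {s | ∃ p ∈ c, equivShrink _ p.L = s}
  let P : Type v := Idx t
  choose pt hpt hptL using fun s : P => s.val.2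
  let : Preorder P := Preorder.lift fun s => (pt s).L
  have : IsDirected P (· ≤ ·) := ⟨fun s s' => by
    rcases hc.total (hpt s) (hpt s') with ⟨h, -⟩ | ⟨h, -⟩
    · exact ⟨s', h, le_refl _⟩
    · exact ⟨s, le_refl _, h⟩⟩
  have : Nonempty P := ⟨⟨⟨_, hne.choose, hne.choose_spec, rfl⟩⟩⟩
  have : IsFiltered P := isFiltered_of_directed_le_nonempty _
  let D : P ⥤ MonoOver K := (show Monotone (fun s : P => (pt s).L) from fun _ _ h => h).functor ⋙ Subobject.representative
  let D' := D ⋙ MonoOver.forget _ ⋙ Over.forget _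
  let m : colimit D' ⟶ K := colimit.desc D' ⟨K, { app := fun s => (D.obj s).obj.hom, naturality := fun s s' a => (MonoOver.w (D.map a)).trans (Category.comp_id _).symm }⟩
  have hm : ∀ s, colimit.ι D' s ≫ m = (D.obj s).obj.hom := fun s => colimit.ι_desc _ _
  have hmono : Mono m := IsGrothendieckAbelian.mono_of_isColimit_monoOver D (colimit.isColimit _) m hm
  have key : ∀ {s s' : P} (a : s ⟶ s'), (Cochain.ofHom (D'.map a)).comp (pt s').α (zero_add (-1)) = (pt s).α := fun {s s'} a => by
    have hD : D'.map a = Subobject.ofLE (pt s).L (pt s').L (show (pt s).L ≤ (pt s').L from (leOfHom a : @LE.le P _ s s')) := by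
      rw [← cancel_mono (pt s').L.arrow, Subobject.ofLE_arrow]
      exact MonoOver.w (D.map a)
    rcases hc.total (hpt s) (hpt s') with ⟨h, e⟩ | ⟨h, e⟩
    · rw [hD]; exact e
    · rw [hD, ← e, ← Cochain.comp_assoc_of_first_is_zero_cochain, ← Cochain.ofHom_comp, Subobject.ofLE_comp_ofLE,
        Subobject.ofLE_refl]
      exact Cochain.id_comp _
  let β : Cochain (colimit D') I (-1) := Cochain.mk fun p q hpq =>
    (preservesColimitIso (HomologicalComplex.eval A (ComplexShape.up ℤ) p) D').hom ≫
      colimit.desc _ ⟨I.X q, { app := fun s => (pt s).α.v p q hpq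
                               naturality := fun s s' a => by
                                 have := Cochain.congr_v (key a) p q hpq
                                 simpa using this }⟩
  have hβ : ∀ s, (Cochain.ofHom (colimit.ι D' s)).comp β (zero_add (-1)) = (pt s).α := fun s => by
    ext p q hpq
    simp only [Cochain.zero_cochain_comp_v, Cochain.ofHom_v, β, Cochain.mk_v]
    rw [← Category.assoc]
    refine (congrArg (· ≫ _) (ι_preservesColimitIso_hom (HomologicalComplex.eval A (ComplexShape.up ℤ) p) D' s)).trans ?_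
    exact colimit.ι_desc _ _
  let L₀ := Subobject.mk m
  let e : (L₀ : CochainComplex A ℤ) ≅ colimit D' := Subobject.underlyingIso m
  have hδ : δ (-1) 0 β = Cochain.ofHom (m ≫ f) := by
    ext p
    refine (isColimitOfPreserves (HomologicalComplex.eval A (ComplexShape.up ℤ) p) (colimit.isColimit D')).hom_ext fun s => ?_
    have h1 := Cochain.congr_v ((δ_ofHom_comp (colimit.ι D' s) β 0).symm.trans ((congrArg (δ (-1) 0) (hβ s)).trans (pt s).hα)) p p (add_zero p)
    simp only [Cochain.zero_cochain_comp_v, Cochain.ofHom_v] at h1 ⊢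
    refine h1.trans ?_
    rw [HomologicalComplex.comp_f, HomologicalComplex.comp_f, ← Category.assoc]
    exact (congrArg (fun g => g.f p ≫ f.f p) (hm s)).symm.trans rfl
  refine ⟨⟨L₀, fun n => ((exactAt_colimit D' n fun s => ⟨s, 𝟙 s, ?_⟩).of_iso e.symm),
    (Cochain.ofHom e.hom).comp β (zero_add (-1)), ?_⟩, fun p hp => ?_⟩
  · have := ((HomologicalComplex.exactAt_iff_isZero_homology _ _).1 ((pt s).ac n))
    exact this.eq_of_src _ _
  · rw [δ_ofHom_comp, hδ, ← Cochain.ofHom_comp, ← Category.assoc, Subobject.underlyingIso_hom_comp_eq_mk]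
  · let s : P := ⟨⟨equivShrink _ p.L, p, hp, rfl⟩⟩
    have hLs : (pt s).L = p.L := (equivShrink _).injective (hptL s)
    have hps : p ≤ pt s := by
      rcases hc.total hp (hpt s) with h | ⟨h, e'⟩
      · exact h
      · refine ⟨hLs.ge, ?_⟩
        rw [← e', ← Cochain.comp_assoc_of_first_is_zero_cochain, ← Cochain.ofHom_comp, Subobject.ofLE_comp_ofLE,
          Subobject.ofLE_refl, Cochain.id_comp]
    refine le_trans hps ⟨Subobject.le_mk_of_comm (colimit.ι D' s) (hm s), ?_⟩
    rw [← Cochain.comp_assoc_of_first_is_zero_cochain, ← Cochain.ofHom_comp, ← hβ s]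
    congr 2
    rw [← cancel_mono m, Category.assoc]
    exact ((congrArg (_ ≫ ·) (Subobject.underlyingIso_hom_comp_eq_mk m)).trans
      ((Subobject.ofLE_arrow _).trans (hm s).symm))

theorem Fibrant.isKInjective {I : CochainComplex A ℤ} (h : Fibrant I) : I.IsKInjective where
  nonempty_homotopy_zero {K} f hK := by
    have := fun n => h.injective n
    have : Nonempty (Part f) := ⟨⟨⊥, fun n => (HomologicalComplex.exactAt_iff _ _).2 (ShortComplex.exact_of_isZero_X₂ _
      ((HomologicalComplex.eval A _ n).map_isZero (IsZero.of_iso (isZero_zero _) Subobject.botCoeIsoZero))),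
      0, by simp⟩⟩
    obtain ⟨M, hM⟩ := zorn_le_nonempty (α := Part f) fun c hc hne => by
      obtain ⟨M, hM⟩ := exists_ub f c hc hne
      exact ⟨M, hM⟩
    suffices hz : IsZero (cokernel M.L.arrow) by
      have : Epi M.L.arrow := Preadditive.epi_of_cancel_zero _ fun g hg => by
        rw [← cokernel.π_desc M.L.arrow g hg, hz.eq_of_src (cokernel.desc _ _ _) 0, comp_zero]
      have : IsIso M.L.arrow := isIso_of_mono_of_epi _
      refine (nullHomotopic_iff f).2 ⟨(Cochain.ofHom (inv M.L.arrow)).comp M.α (zero_add (-1)), ?_⟩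
      rw [δ_ofHom_comp, M.hα, ← Cochain.ofHom_comp, IsIso.inv_hom_id_assoc]
    by_contra hz
    let Q := ShortComplex.mk M.L.arrow (cokernel.π M.L.arrow) (cokernel.condition _)
    have hQ : Q.ShortExact := { exact := ShortComplex.exact_cokernel _ }
    have hQac : (cokernel M.L.arrow).Acyclic := fun n => by
      rw [HomologicalComplex.exactAt_iff_isZero_homology]
      exact (hQ.homology_exact₃ n (n+1) (by simp)).isZero_X₂
        (((HomologicalComplex.exactAt_iff_isZero_homology _ _).1 (hK n)).eq_of_src _ _)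
        (((HomologicalComplex.exactAt_iff_isZero_homology _ _).1 (M.ac (n+1))).eq_of_tgt _ _)
    obtain ⟨R, m, hR, hm, hm0⟩ := exists_small_acyclic hQac hz
    let L' := pullback (cokernel.π M.L.arrow) m
    let p₁ : L' ⟶ K := pullback.fst _ _
    let p₂ : L' ⟶ cokernel R.arrow := pullback.snd _ _
    let ι' : (M.L : CochainComplex A ℤ) ⟶ L' := pullback.lift M.L.arrow 0 (by simp)
    have hι' : ι' ≫ p₁ = M.L.arrow := pullback.lift_fst _ _ _
    have : Mono ι' := mono_of_mono_fac hι'
    have hp₂ : ι' ≫ p₂ = 0 := pullback.lift_snd _ _ _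
    let S := ShortComplex.mk ι' p₂ hp₂
    have hS : S.ShortExact := by
      have : Mono S.f := inferInstanceAs (Mono ι')
      have : Epi S.g := inferInstanceAs (Epi (pullback.snd (cokernel.π M.L.arrow) m))
      refine { exact := ?_ }
      rw [ShortComplex.exact_iff_exact_up_to_refinements]
      intro Z x hx
      have h0 : (x ≫ p₁) ≫ cokernel.π M.L.arrow = 0 := by
        rw [Category.assoc, pullback.condition, ← Category.assoc, show x ≫ p₂ = 0 from hx, zero_comp]
      refine ⟨Z, 𝟙 Z, inferInstance, hQ.exact.lift (x ≫ p₁) h0, pullback.hom_ext ?_ ?_⟩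
      · simp only [Category.id_comp, Category.assoc]
        exact ((congrArg (_ ≫ ·) hι').trans (hQ.exact.lift_f _ h0)).symm
      · simp only [Category.id_comp, Category.assoc]
        exact (hx.trans ((congrArg (_ ≫ ·) hp₂).trans comp_zero).symm)
    have hSn := fun n => hS.map_of_exact (HomologicalComplex.eval A (ComplexShape.up ℤ) n)
    have : ∀ n, Mono (ι'.f n) := fun n => (hSn n).mono_f
    let α₁ : Cochain L' I (-1) := Cochain.mk fun p q hpq => Injective.factorThru (M.α.v p q hpq) (ι'.f p)
    have hα₁ : (Cochain.ofHom ι').comp α₁ (zero_add (-1)) = M.α := by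
      ext p q hpq
      simp [α₁]
    let φ' : L' ⟶ I := p₁ ≫ f - Cocycle.homOf (Cocycle.mk (δ (-1) 0 α₁) 1 (by omega) (δ_δ _ _ _ _))
    have hφ' : ι' ≫ φ' = 0 := by
      apply Cochain.ofHom_injective
      rw [Cochain.ofHom_comp, Cochain.ofHom_sub, Cochain.comp_sub, Cocycle.cochain_ofHom_homOf_eq_coe, Cochain.ofHom_zero]
      change _ - (Cochain.ofHom ι').comp (δ (-1) 0 α₁) _ = 0
      rw [← δ_ofHom_comp, hα₁, M.hα, ← Cochain.ofHom_comp, reassoc_of% hι', sub_self]
    have := hS.epi_g
    let φ : cokernel R.arrow ⟶ I := hS.gIsCokernel.desc (CokernelCofork.ofπ φ' hφ')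
    have hφ : p₂ ≫ φ = φ' := hS.gIsCokernel.fac (CokernelCofork.ofπ φ' hφ') WalkingParallelPair.one
    obtain ⟨γ, hγ⟩ := h.null_small ⟨R, hR⟩ φ
    let α₂ : Cochain L' I (-1) := α₁ + (Cochain.ofHom p₂).comp γ (zero_add (-1))
    have hα₂ : δ (-1) 0 α₂ = Cochain.ofHom (p₁ ≫ f) := by
      simp only [α₂, δ_add, δ_ofHom_comp, hγ, ← Cochain.ofHom_comp, hφ, φ', Cochain.ofHom_sub,
        Cocycle.cochain_ofHom_homOf_eq_coe, Cocycle.mk_coe]
      abel
    have hα₂' : (Cochain.ofHom ι').comp α₂ (zero_add (-1)) = M.α := by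
      rw [Cochain.comp_add, hα₁, ← Cochain.comp_assoc_of_first_is_zero_cochain, ← Cochain.ofHom_comp, hp₂,
        Cochain.ofHom_zero, Cochain.zero_comp, add_zero]
    have hp₁ : Mono p₁ := inferInstance
    let e := Subobject.underlyingIso p₁
    let M' : Part f :=
      { L := Subobject.mk p₁
        ac := fun n => by
          refine HomologicalComplex.ExactAt.of_iso ?_ e.symm
          rw [HomologicalComplex.exactAt_iff_isZero_homology]
          exact ((hS.homology_exact₂ n)).isZero_X₂
            (((HomologicalComplex.exactAt_iff_isZero_homology _ _).1 (M.ac n)).eq_of_src _ _)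
            (((HomologicalComplex.exactAt_iff_isZero_homology _ _).1 (hR n)).eq_of_tgt _ _)
        α := (Cochain.ofHom e.hom).comp α₂ (zero_add (-1))
        hα := by rw [δ_ofHom_comp, hα₂, ← Cochain.ofHom_comp, ← Category.assoc, Subobject.underlyingIso_hom_comp_eq_mk] }
    have hle : M ≤ M' := ⟨Subobject.le_mk_of_comm ι' hι', by
      refine Eq.trans ?_ hα₂'
      change (Cochain.ofHom (Subobject.ofLE M.L (Subobject.mk p₁) _)).comp ((Cochain.ofHom e.hom).comp α₂ (zero_add (-1))) (zero_add (-1)) = _
      rw [← Cochain.comp_assoc_of_first_is_zero_cochain, ← Cochain.ofHom_comp]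
      congr 2
      rw [← cancel_mono p₁, Category.assoc, Subobject.underlyingIso_hom_comp_eq_mk, Subobject.ofLE_arrow, hι']⟩
    obtain ⟨hle', -⟩ := hM hle
    apply hm0
    have hp : p₁ ≫ cokernel.π M.L.arrow = 0 := by
      rw [← Subobject.underlyingIso_arrow p₁, ← Subobject.ofLE_arrow hle', Category.assoc, Category.assoc,
        cokernel.condition, comp_zero, comp_zero]
    rw [← cancel_epi p₂, comp_zero, ← hp]
    exact pullback.condition.symm

end Groth.L10.KInjRes
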