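import Mathlib.Algebra.Homology.GrothendieckAbelian
import Mathlib.Algebra.Homology.Double
import Mathlib.Algebra.Homology.ShortComplex.FunctorEquivalence
import Mathlib.Algebra.Homology.ShortComplex.PreservesHomology
import Mathlib.Algebra.Homology.HomologicalComplexAbelian
import Mathlib.Algebra.Homology.ShortComplex.HomologicalComplex
import Mathlib.CategoryTheory.Abelian.GrothendieckCategory.EnoughInjectives
import Mathlib.CategoryTheory.Functor.OfSequence
import Mathlib.CategoryTheory.Subobject.Limits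

/-! Small acyclic subcomplexes in a Grothendieck abelian category. -/

universe v u

open CategoryTheory CategoryTheory.Limits

set_option backward.defeqAttrib.useBackward true
set_option backward.isDefEq.respectTransparency false
namespace Groth.L10.KInjRes

variable {A : Type u} [Category.{v} A] [Abelian A]

/-- The complex `X ⟶ X` in degrees `n`, `n + 1`. -/
noncomputable abbrev disk (n : ℤ) (X : A) : CochainComplex A ℤ :=
  HomologicalComplex.double (𝟙 X) (show (ComplexShape.up ℤ).Rel n (n+1) from rfl)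

/-- Maps out of a disk. -/
noncomputable def diskHom {n : ℤ} {X : A} {K : CochainComplex A ℤ} (φ : X ⟶ K.X n) : disk n X ⟶ K :=
  HomologicalComplex.mkHomFromDouble _ (by omega) φ (φ ≫ K.d n (n+1)) (by simp) (by simp)

theorem diskHom_f {n : ℤ} {X : A} {K : CochainComplex A ℤ} (φ : X ⟶ K.X n) :
    (HomologicalComplex.doubleXIso₀ _ _).inv ≫ (diskHom φ).f n = φ := by
  simp [diskHom]

theorem diskHom_comp {n : ℤ} {X : A} {K L : CochainComplex A ℤ} (φ : X ⟶ K.X n) (f : K ⟶ L) :
    diskHom φ ≫ f = diskHom (φ ≫ f.f n) := by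
  ext
  · simp [diskHom]
  · simp [diskHom]

theorem ι_e_inv [HasColimitsOfSize.{v, v} A] {J : Type v} [SmallCategory J] (D : J ⥤ CochainComplex A ℤ) (i : ℤ) (j : J)
    [PreservesColimit D (HomologicalComplex.eval A (ComplexShape.up ℤ) i)] [HasColimit D] :
    colimit.ι (D ⋙ HomologicalComplex.eval A (ComplexShape.up ℤ) i) j ≫
      (preservesColimitIso (HomologicalComplex.eval A (ComplexShape.up ℤ) i) D).inv = (colimit.ι D j).f i :=
  ι_preservesColimitIso_inv _ _ _

/-- A filtered colimit of complexes whose homology classes die eventually is acyclic. -/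
theorem exactAt_colimit [IsGrothendieckAbelian.{v} A] {J : Type v} [SmallCategory J] [IsFiltered J]
    (D : J ⥤ CochainComplex A ℤ) (n : ℤ)
    (h : ∀ j, ∃ (j' : J) (a : j ⟶ j'), HomologicalComplex.homologyMap (D.map a) n = 0) :
    (colimit D).ExactAt n := by
  let SC : ShortComplex (J ⥤ A) := (ShortComplex.functorEquivalence J A).inverse.obj
    (D ⋙ HomologicalComplex.shortComplexFunctor A (ComplexShape.up ℤ) n)
  have hz : IsZero (colim.obj SC.homology) := by
    rw [IsZero.iff_id_eq_zero]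
    refine colimit.hom_ext fun j => ?_
    obtain ⟨j', a, ha⟩ := h j
    have hτ : SC.homology.map a = 0 := by
      change ((evaluation J A).map a).app SC.homology = 0
      rw [NatTrans.app_homology]
      have : ShortComplex.homologyMap (SC.mapNatTrans ((evaluation J A).map a)) = 0 := ha
      rw [this, zero_comp, comp_zero]
    refine (Category.comp_id _).trans ?_
    rw [comp_zero, ← colimit.w SC.homology a, hτ, zero_comp]
  have hex : (SC.map colim).Exact :=
    (ShortComplex.exact_iff_isZero_homology _).2 (hz.of_iso (SC.mapHomologyIso colim))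
  rw [HomologicalComplex.exactAt_iff]
  let e := fun i => preservesColimitIso (HomologicalComplex.eval A (ComplexShape.up ℤ) i) D
  refine (ShortComplex.exact_iff_of_iso (ShortComplex.isoMk (S₁ := SC.map colim) (S₂ := (colimit D).sc n)
    (e _).symm (e _).symm (e _).symm ?_ ?_)).1 hex <;>
  · refine colimit.hom_ext fun j => ?_
    simp [e, SC, ShortComplex.functorEquivalence, ShortComplex.FunctorEquivalence.inverse]
    exact (Category.assoc _ _ _).symm.trans ((congrArg (· ≫ _) (ι_e_inv D _ j)).trans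
      (((colimit.ι D j).comm _ _).trans (congrArg (_ ≫ ·) (ι_e_inv D _ j).symm)))

variable [IsGrothendieckAbelian.{v} A]

/-- The chosen generator. -/
noncomputable abbrev gen (A : Type u) [Category.{v} A] [Abelian A] [IsGrothendieckAbelian.{v} A] : A := separator A

instance : HasColimitsOfSize.{v, v} (CochainComplex A ℤ) := inferInstance

/-- A small graded family of disks. -/
structure Gens where
  ι : Type v
  deg : ι → ℤ

/-- Sum of disks on the generator. -/
noncomputable abbrev free (Γ : Gens.{v}) : CochainComplex A ℤ := ∐ fun i : Γ.ι => disk (Γ.deg i) (gen A)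

/-- The map classified by a family of elements. -/
noncomputable abbrev clsMap {Γ : Gens.{v}} {K : CochainComplex A ℤ} (φ : ∀ i, gen A ⟶ K.X (Γ.deg i)) : free Γ ⟶ K :=
  Sigma.desc fun i => diskHom (φ i)

variable (A) in
/-- The new indices in one closure step. -/
noncomputable def New (Γ : Gens.{v}) : Type (max u v) :=
  Σ p : ℤ, Σ R : Subobject ((free (A := A) Γ).X (p+1)), (gen A ⟶ cokernel R.arrow) × Subobject (gen A)

instance (Γ : Gens.{v}) : Small.{v} (New A Γ) := by
  unfold New
  infer_instance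

variable (A) in
/-- One closure step of families. -/
noncomputable def next (Γ : Gens.{v}) : Gens.{v} where
  ι := Γ.ι ⊕ Shrink.{v} (New A Γ)
  deg := Sum.elim Γ.deg fun j => ((equivShrink _).symm j).1

open Classical in
/-- A chosen bounding element. -/
noncomputable def bound {Γ : Gens.{v}} {K : CochainComplex A ℤ} (φ : ∀ i, gen A ⟶ K.X (Γ.deg i)) (j : New A Γ) :
    gen A ⟶ K.X j.1 :=
  if h : ∃ (c : gen A ⟶ K.X j.1) (h' : j.2.1.arrow ≫ (clsMap φ).f (j.1+1) = 0) (w : gen A ⟶ gen A),
      imageSubobject w = j.2.2.2 ∧ c ≫ K.d _ (j.1+1) = w ≫ j.2.2.1 ≫ cokernel.desc _ _ h'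
    then h.choose else 0

theorem bound_spec {Γ : Gens.{v}} {K : CochainComplex A ℤ} (φ : ∀ i, gen A ⟶ K.X (Γ.deg i)) (j : New A Γ)
    (h : j.2.1.arrow ≫ (clsMap φ).f (j.1+1) = 0)
    (hex : ∃ (c : gen A ⟶ K.X j.1) (w : gen A ⟶ gen A), imageSubobject w = j.2.2.2 ∧
      c ≫ K.d _ (j.1+1) = w ≫ j.2.2.1 ≫ cokernel.desc _ _ h) :
    ∃ w : gen A ⟶ gen A, imageSubobject w = j.2.2.2 ∧
      bound φ j ≫ K.d _ (j.1+1) = w ≫ j.2.2.1 ≫ cokernel.desc _ _ h := by
  obtain ⟨c, hc⟩ := hex
  have H : ∃ (c : gen A ⟶ K.X j.1) (h' : j.2.1.arrow ≫ (clsMap φ).f (j.1+1) = 0) (w : gen A ⟶ gen A),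
      imageSubobject w = j.2.2.2 ∧ c ≫ K.d _ (j.1+1) = w ≫ j.2.2.1 ≫ cokernel.desc _ _ h' := ⟨c, h, hc⟩
  rw [show bound φ j = H.choose from dif_pos H]
  exact H.choose_spec.choose_spec

/-- One closure step. -/
noncomputable def nextφ {Γ : Gens.{v}} {K : CochainComplex A ℤ} (φ : ∀ i, gen A ⟶ K.X (Γ.deg i)) :
    ∀ i : (next A Γ).ι, gen A ⟶ K.X ((next A Γ).deg i)
  | .inl i => φ i
  | .inr j => bound φ ((equivShrink _).symm j)

/-- The generated subcomplex. -/
noncomputable abbrev gsub {Γ : Gens.{v}} {K : CochainComplex A ℤ} (φ : ∀ i, gen A ⟶ K.X (Γ.deg i)) : CochainComplex A ℤ :=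
  Abelian.image (clsMap φ)

/-- The inclusion of families. -/
noncomputable def freeInl (Γ : Gens.{v}) : free (A := A) Γ ⟶ free (next A Γ) :=
  Sigma.desc fun i => Sigma.ι (fun i : (next A Γ).ι => disk ((next A Γ).deg i) (gen A)) (Sum.inl i)

theorem freeInl_clsMap {Γ : Gens.{v}} {K : CochainComplex A ℤ} (φ : ∀ i, gen A ⟶ K.X (Γ.deg i)) :
    freeInl Γ ≫ clsMap (nextφ φ) = clsMap φ :=
  Limits.Sigma.hom_ext _ _ fun i => by
    rw [← Category.assoc, freeInl, Sigma.ι_desc, clsMap, Sigma.ι_desc, clsMap, Sigma.ι_desc]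
    rfl

/-- The inclusion of generated subcomplexes. -/
noncomputable def incl {Γ : Gens.{v}} {K : CochainComplex A ℤ} (φ : ∀ i, gen A ⟶ K.X (Γ.deg i)) :
    gsub φ ⟶ gsub (nextφ φ) :=
  kernel.lift _ (Abelian.image.ι _) (by
    rw [← cancel_epi (Abelian.factorThruImage (clsMap φ)), ← Category.assoc, Abelian.image.fac, comp_zero]
    exact (congrArg (· ≫ cokernel.π (clsMap (nextφ φ))) (freeInl_clsMap φ).symm).trans
      ((Category.assoc _ _ _).trans ((congrArg (freeInl Γ ≫ ·) (cokernel.condition _)).trans comp_zero)))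

theorem incl_ι {Γ : Gens.{v}} {K : CochainComplex A ℤ} (φ : ∀ i, gen A ⟶ K.X (Γ.deg i)) :
    incl φ ≫ Abelian.image.ι _ = Abelian.image.ι _ := kernel.lift_ι _ _ _

theorem homologyMap_incl {Γ : Gens.{v}} {K : CochainComplex A ℤ} (hK : K.Acyclic)
    (φ : ∀ i, gen A ⟶ K.X (Γ.deg i)) (n : ℤ) : HomologicalComplex.homologyMap (incl φ) n = 0 := by
  obtain ⟨p, rfl⟩ : ∃ p, n = p + 1 := ⟨n - 1, by omega⟩
  let T := gsub φ
  let T' := gsub (nextφ φ)
  let e := Abelian.factorThruImage (clsMap φ)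
  let m : T ⟶ K := Abelian.image.ι _
  let m' : T' ⟶ K := Abelian.image.ι _
  have hm' : Mono (m'.f (p+1)) := inferInstance
  rw [← cancel_epi (T.homologyπ (p+1)), comp_zero, HomologicalComplex.homologyπ_naturality]
  refine (isSeparator_separator A).def _ _ fun a => ?_
  rw [comp_zero]
  let aT : gen A ⟶ T.X (p+1) := a ≫ T.iCycles (p+1)
  let aK : gen A ⟶ K.X (p+1) := aT ≫ m.f (p+1)
  have haK : aK ≫ K.d (p+1) (p+2) = 0 := by
    simp only [aK, aT, Category.assoc, HomologicalComplex.Hom.comm, HomologicalComplex.iCycles_d_assoc, zero_comp, comp_zero]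
  have : Epi (K.toCycles p (p+1)) := Preadditive.epi_of_cancel_zero _ fun g hg => by
    have hz := (HomologicalComplex.exactAt_iff_isZero_homology _ _).1 (hK (p+1))
    exact ((K.homologyIsCokernel p (p+1) (by simp)).fac (CokernelCofork.ofπ g hg) WalkingParallelPair.one).symm.trans
      ((congrArg (_ ≫ ·) (hz.eq_of_src _ 0)).trans comp_zero)
  let Δ : gen A ⟶ T'.homology (p+1) := a ≫ HomologicalComplex.cyclesMap (incl φ) (p+1) ≫ T'.homologyπ (p+1)
  let a' : gen A ⟶ K.cycles (p+1) := K.liftCycles aK (p+2) (by simp; omega) haK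
  suffices ∀ z : gen A ⟶ pullback a' (K.toCycles p (p+1)), (z ≫ pullback.fst _ _) ≫ Δ = 0 by
    rw [← cancel_epi (pullback.fst a' (K.toCycles p (p+1))), comp_zero]
    refine (isSeparator_separator A).def _ _ fun z => ?_
    rw [comp_zero, ← Category.assoc]
    exact this z
  intro z
  let w₀ := z ≫ pullback.fst a' (K.toCycles p (p+1))
  let c₀ := z ≫ pullback.snd a' (K.toCycles p (p+1))
  have hc₀ : c₀ ≫ K.d p (p+1) = w₀ ≫ aK := by
    simp only [c₀, w₀, Category.assoc]
    rw [← K.toCycles_i p (p+1), ← pullback.condition_assoc, HomologicalComplex.liftCycles_i]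
  have hR : (kernelSubobject (e.f (p+1))).arrow ≫ (clsMap φ).f (p+1) = 0 := by
    refine (congrArg (fun f => (kernelSubobject (e.f (p+1))).arrow ≫ f.f (p+1)) (Abelian.image.fac (clsMap φ)).symm).trans ?_
    rw [HomologicalComplex.comp_f, ← Category.assoc]
    exact (congrArg (· ≫ _) (kernelSubobject_arrow_comp _)).trans zero_comp
  let θ : cokernel (kernelSubobject (e.f (p+1))).arrow ⟶ T.X (p+1) :=
    cokernel.desc _ (e.f (p+1)) (kernelSubobject_arrow_comp _)
  have : IsIso θ := by
    have : Epi θ := epi_of_epi_fac (cokernel.π_desc _ _ _)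
    have : Mono θ := Preadditive.mono_of_cancel_zero _ fun {P} y hy => by
      obtain ⟨Q, π, hπ, x, hx⟩ := surjective_up_to_refinements_of_epi (cokernel.π (kernelSubobject (e.f (p+1))).arrow) y
      have h0 : x ≫ e.f (p+1) = 0 := by rw [← cokernel.π_desc _ (e.f (p+1)) (kernelSubobject_arrow_comp _), ← reassoc_of% hx, hy, comp_zero]
      rw [← cancel_epi π, hx, comp_zero, ← factorThruKernelSubobject_comp_arrow _ x h0, Category.assoc,
        cokernel.condition, comp_zero]
    exact isIso_of_mono_of_epi _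
  let j : New A Γ := ⟨p, kernelSubobject (e.f (p+1)), aT ≫ inv θ, imageSubobject w₀⟩
  have haK' : (aT ≫ inv θ) ≫ cokernel.desc _ _ hR = aK := by
    rw [Category.assoc]
    refine congrArg (aT ≫ ·) ?_
    rw [IsIso.inv_comp_eq, ← cancel_epi (cokernel.π _), cokernel.π_desc, ← Category.assoc, cokernel.π_desc,
      ← HomologicalComplex.comp_f, Abelian.image.fac]
  have hex : ∃ (c : gen A ⟶ K.X j.1) (w : gen A ⟶ gen A), imageSubobject w = j.2.2.2 ∧
      c ≫ K.d j.1 (j.1+1) = w ≫ aK := ⟨c₀, w₀, rfl, hc₀⟩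
  have hb : ∃ w : gen A ⟶ gen A, imageSubobject w = imageSubobject w₀ ∧
      bound φ j ≫ K.d p (p+1) = w ≫ aK := by
    obtain ⟨w, hw, hbw⟩ := bound_spec φ j hR ⟨c₀, w₀, rfl, hc₀.trans (congrArg (w₀ ≫ ·) haK'.symm)⟩
    exact ⟨w, hw, hbw.trans (congrArg (w ≫ ·) haK')⟩
  obtain ⟨w, hw, hbw⟩ := hb
  let i' : (next A Γ).ι := Sum.inr (equivShrink _ j)
  obtain ⟨c', hc'⟩ : ∃ c' : gen A ⟶ T'.X p, c' ≫ m'.f p = bound φ j := by
    have hgen : ∀ (q : ℤ) (x : gen A ⟶ K.X q), (∃ i : (next A Γ).ι, ∃ h : (next A Γ).deg i = q,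
        nextφ φ i ≫ eqToHom (congrArg K.X h) = x) → ∃ c', c' ≫ m'.f q = x := by
      rintro _ _ ⟨i, rfl, rfl⟩
      refine ⟨(HomologicalComplex.doubleXIso₀ _ _).inv ≫
        (Sigma.ι (fun i : (next A Γ).ι => disk ((next A Γ).deg i) (gen A)) i ≫ Abelian.factorThruImage (clsMap (nextφ φ))).f _, ?_⟩
      rw [Category.assoc, ← HomologicalComplex.comp_f, Category.assoc, Abelian.image.fac, clsMap, Sigma.ι_desc,
        diskHom_f, eqToHom_refl, Category.comp_id]
    refine hgen p _ ⟨i', congrArg Sigma.fst (Equiv.symm_apply_apply _ j), ?_⟩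
    have : ∀ (j' : New A Γ) (h : j' = j), bound φ j' ≫ eqToHom (congrArg (fun k => K.X k.1) h) = bound φ j := by
      rintro _ rfl; simp
    exact this _ (Equiv.symm_apply_apply _ j)
  have hwΔ : w ≫ Δ = 0 := by
    have : w ≫ a ≫ HomologicalComplex.cyclesMap (incl φ) (p+1) = c' ≫ T'.toCycles p (p+1) := by
      rw [← cancel_mono (T'.iCycles (p+1)), ← cancel_mono (m'.f (p+1))]
      simp only [T', T, Category.assoc, HomologicalComplex.cyclesMap_i_assoc, HomologicalComplex.toCycles_i_assoc]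
      rw [← HomologicalComplex.comp_f, incl_ι, ← HomologicalComplex.Hom.comm, reassoc_of% hc', hbw]
      simp [aK, aT, m, T]
    simp only [Δ]
    rw [reassoc_of% this, HomologicalComplex.toCycles_comp_homologyπ, comp_zero]
  have hle : imageSubobject w₀ ≤ kernelSubobject Δ := hw ▸ imageSubobject_le _ (factorThruKernelSubobject _ w hwΔ)
    (factorThruKernelSubobject_comp_arrow _ _ _)
  change w₀ ≫ Δ = 0
  rw [← imageSubobject_arrow_comp w₀, ← Subobject.ofLE_arrow hle, Category.assoc, Category.assoc,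
    kernelSubobject_arrow_comp, comp_zero, comp_zero]

/-- Iterated families. -/
noncomputable def gens (A : Type u) [Category.{v} A] [Abelian A] [IsGrothendieckAbelian.{v} A] : ℕ → Gens.{v}
  | 0 => ⟨ULift.{v} ℤ, ULift.down⟩
  | k + 1 => next A (gens A k)

/-- All indices. -/
noncomputable def gensTot (A : Type u) [Category.{v} A] [Abelian A] [IsGrothendieckAbelian.{v} A] : Gens.{v} :=
  ⟨Σ k, (gens A k).ι, fun i => (gens A i.1).deg i.2⟩

/-- Iterated elements. -/
noncomputable def elts {K : CochainComplex A ℤ} (φ : ∀ i, gen A ⟶ K.X ((gens A 0).deg i)) :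
    ∀ k, ∀ i, gen A ⟶ K.X ((gens A k).deg i)
  | 0 => φ
  | k + 1 => nextφ (elts φ k)

/-- The sequence of subcomplexes. -/
noncomputable abbrev towerNat {K : CochainComplex A ℤ} (φ : ∀ i, gen A ⟶ K.X ((gens A 0).deg i)) :
    ℕ ⥤ CochainComplex A ℤ :=
  Functor.ofSequence (X := fun k => gsub (elts φ k)) fun k => incl (elts φ k)

/-- The compatible inclusions. -/
noncomputable def towerι {K : CochainComplex A ℤ} (φ : ∀ i, gen A ⟶ K.X ((gens A 0).deg i)) :
    towerNat φ ⟶ (Functor.const ℕ).obj K :=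
  NatTrans.ofSequence (fun k => Abelian.image.ι (clsMap (elts φ k))) fun k => by
    rw [Functor.ofSequence_map_homOfLE_succ, Functor.const_obj_map]
    exact (incl_ι (elts φ k)).trans (Category.comp_id _).symm

theorem exists_small_acyclic {K : CochainComplex A ℤ} (hK : K.Acyclic) (hne : ¬ IsZero K) :
    ∃ (R : Subobject (free (A := A) (gensTot A))) (m : cokernel R.arrow ⟶ K),
      (cokernel R.arrow).Acyclic ∧ Mono m ∧ m ≠ 0 := by
  obtain ⟨n₀, x, hx⟩ : ∃ (n₀ : ℤ) (x : gen A ⟶ K.X n₀), x ≠ 0 := by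
    by_contra! h
    refine hne ((IsZero.iff_id_eq_zero K).2 (HomologicalComplex.hom_ext _ _ fun n => (isSeparator_separator A).def _ _ fun z => ?_))
    rw [h n z, zero_comp, zero_comp]
  classical
  let φ₀ : ∀ i, gen A ⟶ K.X ((gens A 0).deg i) := fun i =>
    if h : n₀ = i.down then x ≫ eqToHom (congrArg K.X h) else 0
  let D : AsSmall.{v} ℕ ⥤ CochainComplex A ℤ := AsSmall.down ⋙ towerNat φ₀
  let τ : D ⟶ (Functor.const (AsSmall.{v} ℕ)).obj K :=
    Functor.whiskerLeft AsSmall.down (towerι φ₀)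
  have : ∀ k, Mono (τ.app k) := fun k => inferInstanceAs (Mono (Abelian.image.ι (clsMap (elts φ₀ (AsSmall.down.obj k)))))
  have := NatTrans.mono_of_mono_app τ
  let mS : colimit D ⟶ K := colimit.desc D ⟨K, τ⟩
  have hmS : Mono mS := by
    have := IsFiltered.isConnected (AsSmall.{v} ℕ)
    exact colim.map_mono' τ (colimit.isColimit D) (isColimitConstCocone _ K) mS fun k => by simp [mS]
  let q : free (A := A) (gensTot A) ⟶ colimit D := Sigma.desc fun i =>
    Sigma.ι (fun j : (gens A i.1).ι => disk ((gens A i.1).deg j) (gen A)) i.2 ≫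
      Abelian.factorThruImage (clsMap (elts φ₀ i.1)) ≫ colimit.ι D (AsSmall.up.obj i.1)
  have hq : Epi q := ⟨fun g g' h => colimit.hom_ext fun k => by
    rw [← cancel_epi (Abelian.factorThruImage (clsMap (elts φ₀ (AsSmall.down.obj k))))]
    refine Limits.Sigma.hom_ext _ _ fun i => ?_
    have := Sigma.ι (fun i : (gensTot A).ι => disk ((gensTot A).deg i) (gen A)) ⟨(AsSmall.down.obj k), i⟩ ≫= h
    simp only [q, Sigma.ι_desc_assoc, Category.assoc] at this
    exact this⟩
  let R := kernelSubobject q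
  let θ : cokernel R.arrow ⟶ colimit D := cokernel.desc _ q (kernelSubobject_arrow_comp _)
  have : IsIso θ := by
    have : Epi θ := epi_of_epi_fac (cokernel.π_desc _ _ _)
    have : Mono θ := Preadditive.mono_of_cancel_zero _ fun {P} y hy => by
      obtain ⟨Q, π, hπ, z, hz⟩ := surjective_up_to_refinements_of_epi (cokernel.π R.arrow) y
      have h0 : z ≫ q = 0 := by rw [← cokernel.π_desc R.arrow q (kernelSubobject_arrow_comp _), ← reassoc_of% hz, hy, comp_zero]
      rw [← cancel_epi π, hz, comp_zero, ← factorThruKernelSubobject_comp_arrow _ z h0, Category.assoc,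
        cokernel.condition, comp_zero]
    exact isIso_of_mono_of_epi _
  have hac : (colimit D).Acyclic := fun n => exactAt_colimit D n fun k =>
    ⟨AsSmall.up.obj ((AsSmall.down.obj k) + 1), ⟨homOfLE (show (AsSmall.down.obj k) ≤ (AsSmall.down.obj k) + 1 by omega)⟩, by
      change HomologicalComplex.homologyMap ((towerNat φ₀).map (homOfLE (Nat.le_add_right (AsSmall.down.obj k) 1))) n = 0
      rw [Functor.ofSequence_map_homOfLE_succ]
      exact homologyMap_incl hK _ n⟩
  refine ⟨R, θ ≫ mS, fun n => (hac n).of_iso (asIso θ).symm, mono_comp _ _, fun h => hx ?_⟩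
  have h0 : mS = 0 := by rw [← cancel_epi θ, h, comp_zero]
  have h1 : clsMap φ₀ = 0 := by
    rw [← Abelian.image.fac (clsMap φ₀), show Abelian.image.ι (clsMap φ₀) = colimit.ι D (AsSmall.up.obj 0) ≫ mS from
      (colimit.ι_desc ⟨K, τ⟩ (AsSmall.up.obj 0)).symm, h0, comp_zero, comp_zero]
  have h2 := congrArg (fun f => (HomologicalComplex.doubleXIso₀ _ _).inv ≫
    (Sigma.ι (fun j : (gens A 0).ι => disk ((gens A 0).deg j) (gen A)) ⟨n₀⟩ ≫ f).f n₀) h1
  simp only [Sigma.ι_desc, comp_zero, HomologicalComplex.zero_f] at h2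
  have h3 : φ₀ ⟨n₀⟩ = 0 := (diskHom_f _).symm.trans h2
  simpa [φ₀, gens] using h3

end Groth.L10.KInjRes
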